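import Cfsg.Agent.H395.EPM.Struct
import Cfsg.Agent.H867.Max.MTwentyTwo

/-!
# The subgroups of `M22:2` without elements of order 11
-/

set_option autoImplicit false
set_option linter.constructorNameAsVariable false

open scoped Pointwise

namespace Cfsg.Agent.H395.EPM

open Cfsg MulAction Cfsg.Agent.SporadicA.GolayBase Cfsg.Agent.H867.Max.Oct
open Cfsg.Agent.J4Type.Aut22 (D22 mem_D22_iff M22_le_D22 mem_M22_iff_D22 card_pts)

/-- small structures -/
def Small (s : Finset GolayPt) : Prop :=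
  (s.card = 1 ∧ none ∉ s ∧ some 0 ∉ s) ∨ (s.card = 2 ∧ none ∉ s ∧ some 0 ∉ s) ∨
  (s ∈ octads ∧ none ∈ s ∧ some 0 ∈ s) ∨ (s ∈ octads ∧ none ∉ s ∧ some 0 ∉ s)

theorem mem22_of_odd {g : Equiv.Perm GolayPt} (hg : g ∈ D22) (ho : Odd (orderOf g)) : g ∈ Spor.M22 := by
  obtain ⟨k, hk⟩ := ho
  have h1 : g = (g ^ (k + 1)) * (g ^ (k + 1)) := by
    have h2 : g ^ (orderOf g) = 1 := pow_orderOf_eq_one g
    rw [← pow_add, show k + 1 + (k + 1) = (2 * k + 1) + 1 by ring, pow_succ, ← hk, h2, one_mul]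
  have h3 : g ^ (k + 1) ∈ D22 := pow_mem hg _
  rw [mem_M22_iff_D22]
  refine ⟨hg, ?_⟩
  rw [h1, Equiv.Perm.mul_apply]
  rcases ((mem_D22_iff _).1 h3).2 with ⟨h4, h5⟩ | ⟨h4, h5⟩
  · rw [h4, h4]
  · rw [h4, h5]

theorem exists_of_dvd {B : Subgroup (Equiv.Perm GolayPt)} (hB : B ≤ D22) {p : ℕ} (hp : p.Prime) (h2 : p ≠ 2)
    (hd : p ∣ Nat.card B) : ∃ g ∈ B, g ∈ Spor.M22 ∧ orderOf g = p := by
  have : Fact p.Prime := ⟨hp⟩
  obtain ⟨g, hg⟩ := exists_prime_orderOf_dvd_card' (G := B) p hd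
  have hg' : orderOf (g : Equiv.Perm GolayPt) = p := by rw [Subgroup.orderOf_coe]; exact hg
  exact ⟨g, g.2, mem22_of_odd (hB g.2) (by rw [hg']; exact hp.odd_of_ne_two h2), hg'⟩

/-- **Subgroups of `M22:2`.** -/
theorem orbit_struct (B : Subgroup (Equiv.Perm GolayPt)) (hB : B ≤ D22)
    (h11 : ∀ g ∈ B, g ∈ Spor.M22 → orderOf g ≠ 11) :
    ∃ s : Finset GolayPt, (∀ g ∈ B, g • s = s) ∧ (Small s ∨
      (s ∈ octads ∧ ∃ g ∈ B, g ∈ Spor.M22 ∧ orderOf g = 7) ∨
      (s ∈ dodecads ∧ ∃ g ∈ B, g ∈ Spor.M22 ∧ orderOf g = 5)) := by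
  classical
  let O : GolayPt → Finset GolayPt := fun x => (orbit B x).toFinset
  have hO : ∀ x, (O x).card = Nat.card (orbit B x) := by
    intro x
    rw [Nat.card_eq_fintype_card, Set.toFinset_card]
  have hdvd : ∀ x, (O x).card ∣ Nat.card B := by
    intro x
    rw [hO, ← Nat.card_congr (orbitProdStabilizerEquivGroup B x), Nat.card_prod]
    exact Nat.dvd_mul_right _ _
  have hself : ∀ x, x ∈ O x := fun x => by
    rw [Set.mem_toFinset]
    exact mem_orbit_self x
  have hsub : ∀ x, x ≠ none → x ≠ some 0 → O x ⊆ ({none, some 0}ᶜ : Finset GolayPt) := by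
    intro x hx hx0 y hy
    rw [Set.mem_toFinset] at hy
    obtain ⟨g, rfl⟩ := hy
    rw [Finset.mem_compl, Finset.mem_insert, Finset.mem_singleton, not_or]
    have := (Cfsg.Agent.J4Type.Aut22.Out.apply (hB g.2) (x := x) ⟨hx, hx0⟩)
    exact ⟨this.1, this.2⟩
  have hinv : ∀ g ∈ B, ∀ x, g • O x = O x := by
    intro g hg x
    have h1 : g • O x ⊆ O x := by
      intro y hy
      rw [Finset.mem_smul_finset] at hy
      obtain ⟨z, hz, rfl⟩ := hy
      rw [Set.mem_toFinset] at hz ⊢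
      exact (MulAction.mem_orbit_of_mem_orbit (⟨g, hg⟩ : B) hz)
    exact Finset.eq_of_subset_of_card_le h1 (by rw [Finset.card_smul_finset])
  have no11 : ¬ 11 ∣ Nat.card B := by
    intro hd
    obtain ⟨g, hg, hg2, ho⟩ := exists_of_dvd hB (by norm_num) (by norm_num) hd
    exact h11 g hg hg2 ho
  -- an orbit of length at most 10
  have hsm : ∃ x, x ≠ none ∧ x ≠ some 0 ∧ (O x).card ≤ 10 := by
    by_cases h1 : (O (some 1)).card ≤ 10
    · exact ⟨some 1, by simp, by decide, h1⟩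
    · have h2 := hsub (some 1) (by simp) (by decide)
      have h3 := Finset.card_le_card h2
      rw [card_pts] at h3
      have h4 : (O (some 1)).card ≠ 11 := fun h => no11 (h ▸ hdvd (some 1))
      have h5 : (O (some 1)).card ≠ 22 := fun h => no11 ((show 11 ∣ (O (some 1)).card by rw [h]; norm_num).trans
        (hdvd (some 1)))
      have h6 : (({none, some 0}ᶜ : Finset GolayPt) \ O (some 1)).card = 22 - (O (some 1)).card := by
        rw [Finset.card_sdiff_of_subset h2, card_pts]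
      have h7 : (({none, some 0}ᶜ : Finset GolayPt) \ O (some 1)).Nonempty := by
        rw [← Finset.card_pos, h6]
        omega
      obtain ⟨y, hy⟩ := h7
      rw [Finset.mem_sdiff, Finset.mem_compl, Finset.mem_insert, Finset.mem_singleton, not_or] at hy
      refine ⟨y, hy.1.1, hy.1.2, ?_⟩
      have h8 : O y ⊆ ({none, some 0}ᶜ : Finset GolayPt) \ O (some 1) := by
        intro z hz
        rw [Finset.mem_sdiff]
        refine ⟨hsub y hy.1.1 hy.1.2 hz, fun hz1 => hy.2 ?_⟩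
        rw [Set.mem_toFinset] at hz hz1 ⊢
        exact (MulAction.orbit_eq_iff.2 hz1).symm ▸ (MulAction.mem_orbit_symm.1 hz)
      have h9 := Finset.card_le_card h8
      omega
  obtain ⟨x, hx, hx0, hc⟩ := hsm
  have hxs := hsub x hx hx0
  have hn : none ∉ O x := fun h => by
    have := hxs h
    simp at this
  have hz : some 0 ∉ O x := fun h => by
    have := hxs h
    simp at this
  obtain ⟨s, hs, hk⟩ := struct (O x) hn hz ⟨x, hself x⟩ hc
  refine ⟨s, fun g hg => hs g (hB hg) (hinv g hg x), ?_⟩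
  rcases hk with h | h | h | ⟨h7, h⟩ | h | ⟨h10, h⟩
  · exact Or.inl (Or.inl h)
  · exact Or.inl (Or.inr (Or.inl h))
  · exact Or.inl (Or.inr (Or.inr (Or.inl h)))
  · exact Or.inr (Or.inl ⟨h, exists_of_dvd hB (by norm_num) (by norm_num) (h7 ▸ hdvd x)⟩)
  · exact Or.inl (Or.inr (Or.inr (Or.inr h)))
  · exact Or.inr (Or.inr ⟨h, exists_of_dvd hB (by norm_num) (by norm_num)
      ((show 5 ∣ (O x).card by rw [h10]; norm_num).trans (hdvd x))⟩)

/-! ### The orbits of `M22` on the structures -/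

theorem moves {s : Finset GolayPt} (hs : Small s ∨ s ∈ octads ∨ s ∈ dodecads) : ∃ g ∈ Spor.M22, g • s ≠ s := by
  have key : 2 < s.card → s.card < 22 → ∃ g ∈ Spor.M22, g • s ≠ s := by
    intro h1 h2
    obtain ⟨g, hg⟩ := move22 h1 h2
    exact ⟨g, g.2, hg⟩
  have small : 0 < s.card → s.card ≤ 2 → none ∉ s → some 0 ∉ s → ∃ g ∈ Spor.M22, g • s ≠ s := by
    intro hpos h2 hn hz
    obtain ⟨x, hx⟩ := Finset.card_pos.1 hpos
    have hxo : Cfsg.Agent.J4Type.Aut22.Out x := ⟨fun h => hn (h ▸ hx), fun h => hz (h ▸ hx)⟩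
    obtain ⟨y, hy, hys⟩ := Cfsg.Agent.J4Type.Aut22.exists_out s (by omega)
    obtain ⟨z, hz1, hz2⟩ := Cfsg.Agent.J4Type.Aut22.exists_out {x, y} (lt_of_le_of_lt Finset.card_le_two (by norm_num))
    rw [Finset.mem_insert, Finset.mem_singleton, not_or] at hz2
    obtain ⟨m, hm, -⟩ := Cfsg.Agent.J4Type.Aut22.exists_two hxo hz1 (Ne.symm hz2.1) hy hz1 (Ne.symm hz2.2)
    refine ⟨m, m.2, fun h => hys ?_⟩
    rw [← h, ← hm]
    exact Finset.smul_mem_smul_finset hx
  rcases hs with (⟨h1, h2, h3⟩ | ⟨h1, h2, h3⟩ | ⟨h1, h2, h3⟩ | ⟨h1, h2, h3⟩) | h | h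
  · exact small (by omega) (by omega) h2 h3
  · exact small (by omega) (by omega) h2 h3
  · have := card8 h1
    exact key (by omega) (by omega)
  · have := card8 h1
    exact key (by omega) (by omega)
  · have := card8 h
    exact key (by omega) (by omega)
  · have : s.card = 12 := h.2
    exact key (by omega) (by omega)

theorem orb_le {s : Finset GolayPt} {T : Set (Finset GolayPt)} (hT : ∀ g ∈ Spor.M22, g • s ∈ T) :
    Nat.card (orbit Spor.M22 s) ≤ T.ncard := by
  have h1 : (orbit Spor.M22 s) ⊆ T := by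
    rintro _ ⟨g, rfl⟩
    exact hT g g.2
  exact Set.ncard_le_ncard h1 (Set.toFinite _)

theorem orb_big {s : Finset GolayPt} (hs : Small s ∨ s ∈ octads ∨ s ∈ dodecads) :
    Nat.card (orbit Spor.M22 s) ≤ 2576 := by
  have m24 : ∀ g ∈ Spor.M22, g ∈ M24 := fun g hg => M24_of_22 ⟨g, hg⟩
  have hcard : ∀ k, s.card = k → Nat.card (orbit Spor.M22 s) ≤ (24).choose k := by
    intro k hk
    refine (orb_le (T := (Finset.powersetCard k (Finset.univ : Finset GolayPt) : Set (Finset GolayPt)))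
      fun g _ => ?_).trans ?_
    · rw [Finset.mem_coe, Finset.mem_powersetCard, Finset.card_smul_finset]
      exact ⟨Finset.subset_univ _, hk⟩
    · rw [Set.ncard_coe_finset, Finset.card_powersetCard, Finset.card_univ]
      exact le_of_eq (by rw [show Fintype.card GolayPt = 24 by decide])
  have hoct : s ∈ octads → Nat.card (orbit Spor.M22 s) ≤ 2576 := by
    intro h
    refine (orb_le (T := octads) fun g hg => smul_octad (m24 g hg) h).trans ?_
    rw [S0360.result]
    norm_num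
  rcases hs with (⟨h1, -⟩ | ⟨h1, -⟩ | ⟨h1, -⟩ | ⟨h1, -⟩) | h | h
  · exact (hcard 1 h1).trans (by decide)
  · exact (hcard 2 h1).trans (by decide)
  · exact hoct h1
  · exact hoct h1
  · exact hoct h
  · refine (orb_le (T := dodecads) fun g hg => ⟨smul_Cd (m24 g hg) h.1, ?_⟩).trans ?_
    · rw [Finset.card_smul_finset]; exact h.2
    · rw [S0361.result]

theorem fix22 {g : Equiv.Perm GolayPt} (hg : g ∈ Spor.M22) : g none = none ∧ g (some 0) = some 0 :=
  ⟨none_of_22 ⟨g, hg⟩, zero_of_22 ⟨g, hg⟩⟩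

theorem orb_small {s : Finset GolayPt} (hs : Small s) : Nat.card (orbit Spor.M22 s) ≤ 384 := by
  have m24 : ∀ g ∈ Spor.M22, g ∈ M24 := fun g hg => M24_of_22 ⟨g, hg⟩
  have hcard : ∀ k, s.card = k → Nat.card (orbit Spor.M22 s) ≤ (24).choose k := by
    intro k hk
    refine (orb_le (T := (Finset.powersetCard k (Finset.univ : Finset GolayPt) : Set (Finset GolayPt)))
      fun g _ => ?_).trans ?_
    · rw [Finset.mem_coe, Finset.mem_powersetCard, Finset.card_smul_finset]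
      exact ⟨Finset.subset_univ _, hk⟩
    · rw [Set.ncard_coe_finset, Finset.card_powersetCard, Finset.card_univ]
      exact le_of_eq (by rw [show Fintype.card GolayPt = 24 by decide])
  rcases hs with (⟨h1, -⟩ | ⟨h1, -⟩ | ⟨h1, h2, h3⟩ | ⟨h1, h2, h3⟩)
  · exact (hcard 1 h1).trans (by decide)
  · exact (hcard 2 h1).trans (by decide)
  · have h4 := (Cfsg.Agent.H867.Max.MTwentyTwo.hexad h1 h2 h3).2
    rw [index_stabilizer] at h4
    have h5 : Nat.card (orbit Spor.M22 s) = 77 := h4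
    omega
  · -- the 330 octads
    obtain ⟨t, ht, hts⟩ : ∃ t : Finset GolayPt, t.card = 3 ∧ none ∉ t ∧ some 0 ∉ t :=
      ⟨{some 1, some 2, some 3}, by decide, by decide, by decide⟩
    obtain ⟨o, ho, ho1, ho2, -⟩ := exists_octad ht hts.1 hts.2
    have h4 := (Cfsg.Agent.H867.Max.MTwentyTwo.hexad ho ho1 ho2).2
    rw [index_stabilizer] at h4
    have h5 : Nat.card (orbit Spor.M22 o) = 77 := h4
    have h6 : 77 ≤ {x : Finset GolayPt | x ∈ octads ∧ none ∈ x ∧ some 0 ∈ x}.ncard := by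
      rw [← h5]
      refine orb_le fun g hg => ⟨smul_octad (m24 g hg) ho, ?_, ?_⟩
      · exact (mem_smul_of_fix (fix22 hg).1).2 ho1
      · exact (mem_smul_of_fix (fix22 hg).2).2 ho2
    have h7 := (S1605.result (none : GolayPt) (some 0) (by simp)).1
    have h8 := (S1605.result (some 0 : GolayPt) none (by simp)).1
    have h9 := S0360.result
    have h10 : Nat.card (orbit Spor.M22 s) ≤ {x : Finset GolayPt | x ∈ octads ∧ none ∉ x ∧ some 0 ∉ x}.ncard := by
      refine orb_le fun g hg => ⟨smul_octad (m24 g hg) h1, ?_, ?_⟩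
      · exact fun h => h2 ((mem_smul_of_fix (fix22 hg).1).1 h)
      · exact fun h => h3 ((mem_smul_of_fix (fix22 hg).2).1 h)
    have e1 : octads = ({x : Finset GolayPt | x ∈ octads ∧ none ∈ x ∧ some 0 ∈ x} ∪
        {x : Finset GolayPt | x ∈ octads ∧ none ∉ x ∧ some 0 ∉ x}) ∪
        ({x : Finset GolayPt | x ∈ octads ∧ none ∈ x ∧ some 0 ∉ x} ∪
        {x : Finset GolayPt | x ∈ octads ∧ some 0 ∈ x ∧ none ∉ x}) := by
      ext x
      simp only [Set.mem_union, Set.mem_setOf_eq]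
      tauto
    rw [e1, Set.ncard_union_eq, Set.ncard_union_eq, Set.ncard_union_eq, h7, h8] at h9
    · omega
    · rw [Set.disjoint_left]
      rintro x ⟨-, a1, a2⟩ ⟨-, b1, b2⟩
      exact a2 b1
    · rw [Set.disjoint_left]
      rintro x ⟨-, a1, a2⟩ ⟨-, b1, b2⟩
      exact b1 a1
    · rw [Set.disjoint_left]
      rintro x (⟨-, a1, a2⟩ | ⟨-, a1, a2⟩) (⟨-, b1, b2⟩ | ⟨-, b1, b2⟩)
      · exact b2 a2
      · exact b2 a1
      · exact a1 b1
      · exact a2 b1

end Cfsg.Agent.H395.EPM
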