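import Cfsg.Agent.H395.EPM.Fix
import Cfsg.Agent.H395.EPM.Perm
import Cfsg.Agent.H284.EP.TForm
import Cfsg.Agent.KFacts.MM.OutAut

/-!
# `M22` is not the stabiliser of an extremely primitive action of a group of order 9196830720
-/

set_option autoImplicit false
set_option linter.constructorNameAsVariable false

open scoped Pointwise

namespace Cfsg.Agent.H395.EPM

open Cfsg MulAction Cfsg.Agent.H284
open Cfsg.Agent.J4Type.Aut22 (D22 mem_D22_iff M22_le_D22 mem_M22_iff_D22 card_D22)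

theorem card_aut {K : Type*} [Group K] (hK : Spor.IsoM22 K) : Nat.card (MulAut K) = 887040 := by
  obtain ⟨ι, hi, hr, -⟩ := KFacts.MM.OutAut.exists_iota hK
  rw [← card_D22, ← hr]
  exact Nat.card_congr (MonoidHom.ofInjective hi).toEquiv

theorem card_22 {K : Type*} [Group K] (hK : Spor.IsoM22 K) : Nat.card K = 443520 := by
  obtain ⟨e⟩ := hK
  rw [Nat.card_congr e.toEquiv]
  exact Cfsg.Agent.SporadicA.MathieuRecog.card_M22

section

variable {Q : Type*} [Group Q] [Finite Q] {A : Subgroup Q} {Γ : Subgroup (MulAut Q)}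

omit [Finite Q] in
theorem card_A [Finite A] {N : Subgroup Q} (hNA : N ≤ A) (hN : ∀ a ∈ A, ∀ n ∈ N, a * n * a⁻¹ ∈ N) (e : Spor.IsoM22 N)
    (hC : ∀ a ∈ A, (∀ n ∈ N, a * n = n * a) → a = 1) : Nat.card A = 443520 ∨ Nat.card A = 887040 := by
  have hn : (N.subgroupOf A).Normal := by
    constructor
    intro n hn g
    rw [Subgroup.mem_subgroupOf] at hn ⊢
    exact hN g g.2 n hn
  have hiso : Spor.IsoM22 (N.subgroupOf A) := by
    obtain ⟨f⟩ := e
    exact ⟨(Subgroup.subgroupOfEquivOfLe hNA).trans f⟩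
  have hinj : Function.Injective (MulAut.conjNormal (H := N.subgroupOf A)) := by
    rw [injective_iff_map_eq_one]
    intro a ha
    apply Subtype.ext
    apply hC a a.2
    intro n hn
    have h1 := DFunLike.congr_fun ha (⟨⟨n, hNA hn⟩, hn⟩ : N.subgroupOf A)
    have h2 := congrArg (fun y : N.subgroupOf A => ((y : A) : Q)) h1
    rw [MulAut.one_apply] at h2
    have h3 : (a : Q) * n * (a : Q)⁻¹ = n := by
      have h4 := MulAut.conjNormal_apply (H := N.subgroupOf A) a (⟨⟨n, hNA hn⟩, hn⟩ : N.subgroupOf A)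
      have h5 := congrArg (fun y : A => (y : Q)) h4
      exact (show (a : Q) * n * (a : Q)⁻¹ = _ from h5.symm).trans h2
    rw [mul_inv_eq_iff_eq_mul] at h3
    exact h3
  have h1 : Nat.card A ∣ 887040 := by
    rw [← card_aut hiso]
    have h2 := Subgroup.card_subgroup_dvd_card (MulAut.conjNormal (H := N.subgroupOf A)).range
    rwa [← Nat.card_congr (MonoidHom.ofInjective hinj).toEquiv] at h2
  have h2 : 443520 ∣ Nat.card A := by
    rw [← card_22 e]
    exact Subgroup.card_dvd_of_le hNA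
  obtain ⟨k, hk⟩ := h2
  rw [hk] at h1
  have h3 : k ∣ 2 := by
    have : 443520 * k ∣ 443520 * 2 := h1
    exact Nat.dvd_of_mul_dvd_mul_left (by norm_num) this
  have h4 := Nat.le_of_dvd (by norm_num) h3
  interval_cases k
  · omega
  · left; omega
  · right; omega

/-- the hypotheses on the normalizers in `Q` -/
structure Nrm (Q : Type*) [Group Q] : Prop where
  card : Nat.card Q = 9196830720
  n5 : ∀ P : Subgroup Q, Nat.card P = 5 → Nat.card (Subgroup.normalizer (P : Set Q)) ∣ 120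
  n7 : ∀ P : Subgroup Q, Nat.card P = 7 → Nat.card (Subgroup.normalizer (P : Set Q)) ∣ 42
  n11 : ∀ P : Subgroup Q, Nat.card P = 11 → Nat.card (Subgroup.normalizer (P : Set Q)) ∣ 55

theorem fx_dvd {P : Subgroup Q} {p m : ℕ} (hp : p.Prime) (hP : Nat.card P = p) (hPA : P ≤ A)
    (hA : ¬ p ^ 2 ∣ Nat.card A) (hd : Nat.card (Subgroup.normalizer (P : Set Q)) ∣ p * m) : (Fx A P).ncard ∣ m := by
  have h1 := fx_card hp hP hPA hA
  have h2 : p ∣ Nat.card (Subgroup.normalizer (P : Set Q) ⊓ A : Subgroup Q) := by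
    rw [← hP]
    exact Subgroup.card_dvd_of_le (le_inf Subgroup.le_normalizer hPA)
  obtain ⟨k, hk⟩ := h2
  rw [hk] at h1
  rw [← h1] at hd
  have h3 : p * ((Fx A P).ncard * k) ∣ p * m := by
    rw [show p * ((Fx A P).ncard * k) = (Fx A P).ncard * (p * k) by ring]
    exact hd
  exact (Dvd.intro _ rfl).trans (Nat.dvd_of_mul_dvd_mul_left hp.pos h3)

theorem index_eq (hQ : Nrm Q) (hA : Nat.card A = 443520) : A.index = 20736 := by
  have h1 := A.card_mul_index
  rw [hA, hQ.card] at h1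
  omega

/-- the case `A = M22.2` -/
theorem not_two (hQ : Nrm Q) : Nat.card A ≠ 887040 := by
  intro hA
  have h1 := A.card_mul_index
  rw [hA, hQ.card] at h1
  have h2 : A.index = 10368 := by omega
  have : Fact (Nat.Prime 11) := ⟨by norm_num⟩
  obtain ⟨P, hP⟩ := Sylow.exists_subgroup_card_pow_prime (G := A) 11 (n := 1) (by rw [hA]; norm_num)
  have hP' : Nat.card (P.map A.subtype) = 11 := by
    rw [Nat.card_congr (P.equivMapOfInjective _ A.subtype_injective).symm.toEquiv, hP]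
    norm_num
  have hPA : P.map A.subtype ≤ A := by
    rintro _ ⟨a, -, rfl⟩
    exact a.2
  have h3 := fx_dvd (A := A) (m := 5) (by norm_num) hP' hPA (by rw [hA]; norm_num) (hQ.n11 _ hP')
  have h4 := fx_mod (A := A) (p := 11) (by norm_num) hP'
  rw [h2] at h4
  have h5 : (Fx A (P.map A.subtype)).ncard ∈ Nat.divisors 5 := Nat.mem_divisors.2 ⟨h3, by norm_num⟩
  rw [show Nat.divisors 5 = {1, 5} by decide] at h5
  simp only [Finset.mem_insert, Finset.mem_singleton] at h5
  rcases h5 with h5 | h5 <;> rw [h5] at h4 <;> exact absurd h4 (by decide)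

theorem fx11 (hQ : Nrm Q) (hA : Nat.card A = 443520) {P : Subgroup Q} (hP : Nat.card P = 11) (hPA : P ≤ A) :
    (Fx A P).ncard = 1 := by
  have h3 := fx_dvd (A := A) (m := 5) (by norm_num) hP hPA (by rw [hA]; norm_num) (hQ.n11 _ hP)
  have h4 := fx_mod (A := A) (p := 11) (by norm_num) hP
  rw [index_eq hQ hA] at h4
  have h5 : (Fx A P).ncard ∈ Nat.divisors 5 := Nat.mem_divisors.2 ⟨h3, by norm_num⟩
  rw [show Nat.divisors 5 = {1, 5} by decide] at h5
  simp only [Finset.mem_insert, Finset.mem_singleton] at h5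
  rcases h5 with h5 | h5
  · exact h5
  · rw [h5] at h4
    exact absurd h4 (by decide)

theorem fx7 (hQ : Nrm Q) (hA : Nat.card A = 443520) {P : Subgroup Q} (hP : Nat.card P = 7) (hPA : P ≤ A) :
    (Fx A P).ncard ≤ 2 := by
  have h3 := fx_dvd (A := A) (m := 6) (by norm_num) hP hPA (by rw [hA]; norm_num) (hQ.n7 _ hP)
  have h4 := fx_mod (A := A) (p := 7) (by norm_num) hP
  rw [index_eq hQ hA] at h4
  have h5 : (Fx A P).ncard ∈ Nat.divisors 6 := Nat.mem_divisors.2 ⟨h3, by norm_num⟩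
  rw [show Nat.divisors 6 = {1, 2, 3, 6} by decide] at h5
  simp only [Finset.mem_insert, Finset.mem_singleton] at h5
  rcases h5 with h5 | h5 | h5 | h5
  · omega
  · omega
  · rw [h5] at h4
    exact absurd h4 (by decide)
  · rw [h5] at h4
    exact absurd h4 (by decide)

theorem fx5 (hQ : Nrm Q) (hA : Nat.card A = 443520) {P : Subgroup Q} (hP : Nat.card P = 5) (hPA : P ≤ A) :
    (Fx A P).ncard ≤ 6 := by
  have h3 := fx_dvd (A := A) (m := 24) (by norm_num) hP hPA (by rw [hA]; norm_num) (hQ.n5 _ hP)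
  have h4 := fx_mod (A := A) (p := 5) (by norm_num) hP
  rw [index_eq hQ hA] at h4
  have h5 : (Fx A P).ncard ∈ Nat.divisors 24 := Nat.mem_divisors.2 ⟨h3, by norm_num⟩
  rw [show Nat.divisors 24 = {1, 2, 3, 4, 6, 8, 12, 24} by decide] at h5
  simp only [Finset.mem_insert, Finset.mem_singleton] at h5
  rcases h5 with h5 | h5 | h5 | h5 | h5 | h5 | h5 | h5
  · omega
  · omega
  · omega
  · omega
  · omega
  · rw [h5] at h4
    exact absurd h4 (by decide)
  · rw [h5] at h4
    exact absurd h4 (by decide)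
  · rw [h5] at h4
    exact absurd h4 (by decide)

/-- the restriction to `A` -/
def res (h : EPT A Γ) : Γ →* MulAut A where
  toFun σ :=
    { toFun := fun a => ⟨(σ : MulAut Q) a, (h.inv σ σ.2 a).2 a.2⟩
      invFun := fun a => ⟨((σ⁻¹ : Γ) : MulAut Q) a, (h.inv (σ⁻¹ : Γ) (σ⁻¹ : Γ).2 a).2 a.2⟩
      left_inv := fun a => Subtype.ext (by
        change ((σ⁻¹ : Γ) : MulAut Q) ((σ : MulAut Q) a) = a
        rw [← MulAut.mul_apply, ← Subgroup.coe_mul, inv_mul_cancel]
        rfl)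
      right_inv := fun a => Subtype.ext (by
        change (σ : MulAut Q) (((σ⁻¹ : Γ) : MulAut Q) a) = a
        rw [← MulAut.mul_apply, ← Subgroup.coe_mul, mul_inv_cancel]
        rfl)
      map_mul' := fun a b => Subtype.ext (map_mul (σ : MulAut Q) (a : Q) b) }
  map_one' := by
    ext a
    rfl
  map_mul' σ τ := by
    ext a
    rfl

omit [Finite Q] in
theorem res_inj (h : EPT A Γ) : Function.Injective (res h) := by
  rw [injective_iff_map_eq_one]
  intro σ hσ
  apply Subtype.ext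
  apply h.cent σ σ.2
  intro a ha
  have h1 := DFunLike.congr_fun hσ (⟨a, ha⟩ : A)
  exact congrArg Subtype.val h1

/-- the inner automorphism -/
def inn (h : EPT A Γ) (a : A) : Γ := ⟨MulAut.conj (a : Q), (h.conj a).2 a.2⟩

omit [Finite Q] in
theorem res_inn (h : EPT A Γ) (a : A) : res h (inn h a) = MulAut.conj a := by
  ext b
  rfl

omit [Finite Q] in
theorem inn_mul (h : EPT A Γ) (a b : A) : inn h (a * b) = inn h a * inn h b :=
  Subtype.ext (map_mul MulAut.conj (a : Q) (b : Q))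

omit [Finite Q] in
theorem inn_stab (h : EPT A Γ) (a : A) (x : Q) :
    x⁻¹ * ((inn h a : Γ) : MulAut Q) x ∈ A ↔ x⁻¹ * (a : Q) * x ∈ A := by
  change x⁻¹ * ((a : Q) * x * (a : Q)⁻¹) ∈ A ↔ _
  have h1 : x⁻¹ * ((a : Q) * x * (a : Q)⁻¹) = (x⁻¹ * (a : Q) * x) * (a : Q)⁻¹ := by group
  rw [h1]
  exact Subgroup.mul_mem_cancel_right A (inv_mem a.2)

theorem center_triv {K : Type*} [Group K] (e : Spor.IsoM22 K) (n : K) (hn : ∀ k : K, n * k = k * n) : n = 1 := by
  have hK := card_22 e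
  obtain ⟨f⟩ := e
  have hs0 : IsSimpleGroup Spor.M22 := Cfsg.Agent.SporadicA.MathieuRecog.simple_M22
  have hs : IsSimpleGroup K := f.isSimpleGroup
  have hcen : n ∈ Subgroup.center K := by
    rw [Subgroup.mem_center_iff]
    exact fun k => (hn k).symm
  rcases hs.eq_bot_or_eq_top_of_normal (Subgroup.center K) inferInstance with h14 | h14
  · rw [h14, Subgroup.mem_bot] at hcen
    exact hcen
  · exfalso
    have hab' : ∀ a b : K, a * b = b * a := by
      intro a b
      have : a ∈ Subgroup.center K := by rw [h14]; exact Subgroup.mem_top _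
      exact ((Subgroup.mem_center_iff.1 this) b).symm
    have hfin : Finite K := Nat.finite_of_card_ne_zero (by rw [hK]; norm_num)
    have hcard : (Nat.card K).Prime := by
      let _ : CommGroup K := { (inferInstance : Group K) with mul_comm := hab' }
      exact (IsSimpleGroup.prime_card (α := K))
    rw [hK] at hcard
    revert hcard
    norm_num

/-- the inner automorphisms -/
def innH (h : EPT A Γ) : A →* Γ where
  toFun := inn h
  map_one' := by
    apply res_inj h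
    rw [res_inn, map_one, map_one]
  map_mul' := inn_mul h

omit [Finite Q] in
theorem innH_inj (h : EPT A Γ) (e : Spor.IsoM22 A) : Function.Injective (innH h) := by
  rw [injective_iff_map_eq_one]
  intro a ha
  apply center_triv e
  intro k
  have h1 := res_inn h a
  have h2 : inn h a = 1 := ha
  rw [h2, map_one] at h1
  have h3 := DFunLike.congr_fun h1 k
  rw [MulAut.one_apply, MulAut.conj_apply] at h3
  exact (mul_inv_eq_iff_eq_mul.1 h3.symm)

/-- the main local statement -/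
theorem local_main (h : EPT A Γ) (hQ : Nrm Q) (e : Spor.IsoM22 A) {x : Q} (hx : x ∉ A) :
    (∃ n ∈ A, x⁻¹ * n * x ∈ A ∧ (orderOf n = 5 ∨ orderOf n = 7)) ∧
      Nat.card (orbit A ((x : Q) : Q ⧸ A)) ≤ 2576 := by
  classical
  have hA : Nat.card A = 443520 := card_22 e
  obtain ⟨ι, hi, hr, hc⟩ := KFacts.MM.OutAut.exists_iota e
  let θ : Γ →* Equiv.Perm GolayPt := ι.comp (res h)
  have hθi : Function.Injective θ := hi.comp (res_inj h)
  have hθD : ∀ σ, θ σ ∈ D22 := fun σ => by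
    rw [← hr]
    exact ⟨_, rfl⟩
  -- inner
  have hin : ∀ a : A, θ (inn h a) ∈ Spor.M22 := by
    intro a
    have h1 : MulAut.conj a ∈ (Spor.M22).comap ι := by
      rw [hc]
      exact ⟨a, rfl⟩
    change ι (res h (inn h a)) ∈ Spor.M22
    rw [res_inn]
    exact h1
  have hin' : ∀ σ : Γ, θ σ ∈ Spor.M22 → ∃ a : A, σ = inn h a := by
    intro σ hσ
    have h1 : res h σ ∈ (Spor.M22).comap ι := hσ
    rw [hc] at h1
    obtain ⟨a, ha⟩ := h1
    refine ⟨a, res_inj h ?_⟩
    rw [res_inn]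
    exact ha.symm
  have hsur : ∀ m ∈ Spor.M22, ∃ a : A, θ (inn h a) = m := by
    intro m hm
    have h1 : m ∈ ι.range := by rw [hr]; exact M22_le_D22 hm
    obtain ⟨α, rfl⟩ := h1
    have h2 : α ∈ (Spor.M22).comap ι := hm
    rw [hc] at h2
    obtain ⟨a, rfl⟩ := h2
    refine ⟨a, ?_⟩
    change ι (res h (inn h a)) = _
    rw [res_inn]
  -- the stabiliser
  let Gx : Subgroup Γ :=
    { carrier := {σ | x⁻¹ * (σ : MulAut Q) x ∈ A}
      one_mem' := by
        change x⁻¹ * x ∈ A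
        rw [inv_mul_cancel]
        exact one_mem _
      mul_mem' := by
        intro σ τ hσ hτ
        change x⁻¹ * (σ : MulAut Q) ((τ : MulAut Q) x) ∈ A
        have h1 : (σ : MulAut Q) (x⁻¹ * (τ : MulAut Q) x) ∈ A := (h.inv σ σ.2 _).2 hτ
        rw [map_mul, map_inv] at h1
        have h2 := mul_mem hσ h1
        have h3 : x⁻¹ * (σ : MulAut Q) x * (((σ : MulAut Q) x)⁻¹ * (σ : MulAut Q) ((τ : MulAut Q) x)) =
            x⁻¹ * (σ : MulAut Q) ((τ : MulAut Q) x) := by group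
        rwa [h3] at h2
      inv_mem' := by
        intro σ hσ
        have h1 : ((σ⁻¹ : Γ) : MulAut Q) (x⁻¹ * (σ : MulAut Q) x) ∈ A :=
          (h.inv _ (σ⁻¹ : Γ).2 _).2 hσ
        rw [map_mul, map_inv] at h1
        have h2 : ((σ⁻¹ : Γ) : MulAut Q) ((σ : MulAut Q) x) = x := by
          rw [← MulAut.mul_apply, ← Subgroup.coe_mul, inv_mul_cancel]
          rfl
        rw [h2] at h1
        have h3 := inv_mem h1
        rw [mul_inv_rev, inv_inv] at h3
        exact h3 }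
  have hmem : ∀ σ : Γ, σ ∈ Gx ↔ x⁻¹ * (σ : MulAut Q) x ∈ A := fun σ => Iff.rfl
  let B : Subgroup (Equiv.Perm GolayPt) := Gx.map θ
  have hB : B ≤ D22 := by
    rintro _ ⟨σ, -, rfl⟩
    exact hθD σ
  -- elements of `B ∩ M22`
  have hBM : ∀ g ∈ B, g ∈ Spor.M22 → ∃ n ∈ A, x⁻¹ * n * x ∈ A ∧ orderOf n = orderOf g := by
    rintro _ ⟨σ, hσ, rfl⟩ hg
    obtain ⟨a, rfl⟩ := hin' σ hg
    refine ⟨a, a.2, (inn_stab h a x).1 hσ, ?_⟩
    have h1 : orderOf (θ (inn h a)) = orderOf a :=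
      orderOf_injective (θ.comp (innH h)) (hθi.comp (innH_inj h e)) a
    rw [h1, Subgroup.orderOf_coe]
  have h11 : ∀ g ∈ B, g ∈ Spor.M22 → orderOf g ≠ 11 := by
    intro g hg hg2 ho
    obtain ⟨n, hn, hnx, hno⟩ := hBM g hg hg2
    rw [ho] at hno
    have hP : Nat.card (Subgroup.zpowers n) = 11 := by rw [Nat.card_zpowers, hno]
    have hPA : Subgroup.zpowers n ≤ A := by rw [Subgroup.zpowers_le]; exact hn
    have h1 := fx11 hQ hA hP hPA
    obtain ⟨c, hc⟩ := Set.ncard_eq_one.1 h1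
    have h2 : ((1 : Q) : Q ⧸ A) ∈ Fx A (Subgroup.zpowers n) := base_mem hPA
    have h3 : ((x : Q) : Q ⧸ A) ∈ Fx A (Subgroup.zpowers n) := by
      rw [mem_Fx]
      intro g hg
      obtain ⟨k, rfl⟩ := Subgroup.mem_zpowers_iff.1 hg
      have h4 : x⁻¹ * n ^ k * x = (x⁻¹ * n * x) ^ k := by
        have := (conj_zpow (a := x⁻¹) (b := n) (i := k)).symm
        simpa using this
      rw [h4]
      exact zpow_mem hnx k
    rw [hc, Set.mem_singleton_iff] at h2 h3
    rw [← h2, QuotientGroup.eq, mul_one] at h3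
    exact hx (by simpa using inv_mem h3)
  obtain ⟨s, hs, hk⟩ := orbit_struct B hB h11
  have hk' : Small s ∨ s ∈ octads ∨ s ∈ dodecads := by
    rcases hk with h1 | ⟨h1, -⟩ | ⟨h1, -⟩
    · exact Or.inl h1
    · exact Or.inr (Or.inl h1)
    · exact Or.inr (Or.inr h1)
  -- the overgroup
  let L : Subgroup (MulAut Q) := ((stabilizer (Equiv.Perm GolayPt) s).comap θ).map Γ.subtype
  have hL := h.two x hx L (by
    rintro _ ⟨σ, -, rfl⟩
    exact σ.2) (by
    intro σ hσ hσx
    refine ⟨⟨σ, hσ⟩, ?_, rfl⟩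
    change θ ⟨σ, hσ⟩ • s = s
    exact hs _ ⟨⟨σ, hσ⟩, hσx, rfl⟩)
  have hst : ∀ a : A, θ (inn h a) • s = s → x⁻¹ * (a : Q) * x ∈ A := by
    intro a ha
    rcases hL with h1 | h1
    · exfalso
      obtain ⟨g, hg, hgs⟩ := moves hk'
      obtain ⟨b, hb⟩ := hsur g hg
      have h2 : ((inn h b : Γ) : MulAut Q) ∈ L := by rw [h1]; exact (inn h b).2
      obtain ⟨σ, hσ, hσ'⟩ := h2
      have h3 : σ = inn h b := Subtype.ext hσ'
      rw [h3] at hσ
      apply hgs
      rw [← hb]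
      exact hσ
    · rw [← inn_stab h]
      exact h1 _ ⟨inn h a, ha, rfl⟩
  -- comparison of orbits
  have horb : Nat.card (orbit A ((x : Q) : Q ⧸ A)) ≤ Nat.card (orbit Spor.M22 s) := by
    have hch : ∀ t ∈ orbit Spor.M22 s, ∃ a : A, θ (inn h a) • s = t := by
      rintro _ ⟨m, rfl⟩
      obtain ⟨a, ha⟩ := hsur m m.2
      exact ⟨a, by rw [ha]; rfl⟩
    choose f hf using hch
    let F : orbit Spor.M22 s → orbit A ((x : Q) : Q ⧸ A) := fun t => ⟨f t.1 t.2 • ((x : Q) : Q ⧸ A), ⟨_, rfl⟩⟩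
    apply Nat.card_le_card_of_surjective F
    rintro ⟨_, ⟨a, rfl⟩⟩
    have ht : θ (inn h a) • s ∈ orbit Spor.M22 s := ⟨⟨θ (inn h a), hin a⟩, rfl⟩
    refine ⟨⟨_, ht⟩, Subtype.ext ?_⟩
    have h1 := hf _ ht
    set b := f _ ht with hb
    have h2 : θ (inn h (a⁻¹ * b)) • s = s := by
      have h3 : inn h (a⁻¹ * b) = (inn h a)⁻¹ * inn h b := by
        rw [eq_inv_mul_iff_mul_eq, ← inn_mul, mul_inv_cancel_left]
      rw [h3, map_mul, map_inv, mul_smul, h1, inv_smul_smul]
    have h4 := hst _ h2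
    change (b : Q) • ((x : Q) : Q ⧸ A) = (a : Q) • ((x : Q) : Q ⧸ A)
    have h5 := (smul_eq_iff (A := A) ((a⁻¹ * b : A) : Q) x).2 h4
    rw [Subgroup.coe_mul, Subgroup.coe_inv, mul_smul, inv_smul_eq_iff] at h5
    exact h5
  refine ⟨?_, horb.trans (orb_big hk')⟩
  rcases hk with h1 | ⟨-, g, hg, hg2, ho⟩ | ⟨-, g, hg, hg2, ho⟩
  · -- small
    have h2 := horb.trans (orb_small h1)
    have h3 : Nat.card (orbit A ((x : Q) : Q ⧸ A)) * Nat.card (stabilizer A ((x : Q) : Q ⧸ A)) = 443520 := by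
      rw [← hA, ← Nat.card_prod]
      exact Nat.card_congr (orbitProdStabilizerEquivGroup A ((x : Q) : Q ⧸ A))
    have key : ∀ p : ℕ, p.Prime → p ∣ Nat.card (stabilizer A ((x : Q) : Q ⧸ A)) →
        ∃ n ∈ A, x⁻¹ * n * x ∈ A ∧ orderOf n = p := by
      intro p hp hd
      have : Fact p.Prime := ⟨hp⟩
      obtain ⟨y, hy⟩ := exists_prime_orderOf_dvd_card' (G := stabilizer A ((x : Q) : Q ⧸ A)) p hd
      refine ⟨((y : A) : Q), (y : A).2, ?_, by rw [Subgroup.orderOf_coe, Subgroup.orderOf_coe, hy]⟩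
      exact (smul_eq_iff (A := A) ((y : A) : Q) x).1 y.2
    by_cases h5 : 5 ∣ Nat.card (stabilizer A ((x : Q) : Q ⧸ A))
    · obtain ⟨n, hn, hnx, hno⟩ := key 5 (by norm_num) h5
      exact ⟨n, hn, hnx, Or.inl hno⟩
    by_cases h7 : 7 ∣ Nat.card (stabilizer A ((x : Q) : Q ⧸ A))
    · obtain ⟨n, hn, hnx, hno⟩ := key 7 (by norm_num) h7
      exact ⟨n, hn, hnx, Or.inr hno⟩
    by_cases h11' : 11 ∣ Nat.card (stabilizer A ((x : Q) : Q ⧸ A))
    · exfalso
      obtain ⟨n, hn, hnx, hno⟩ := key 11 (by norm_num) h11'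
      have h6 : θ (inn h ⟨n, hn⟩) ∈ B := ⟨_, (inn_stab h ⟨n, hn⟩ x).2 hnx, rfl⟩
      have h8 : orderOf (θ (inn h ⟨n, hn⟩)) = 11 := by
        have h1 : orderOf (θ (inn h ⟨n, hn⟩)) = orderOf (⟨n, hn⟩ : A) :=
          orderOf_injective (θ.comp (innH h)) (hθi.comp (innH_inj h e)) _
        rw [h1, Subgroup.orderOf_mk, hno]
      exact h11 _ h6 (hin _) h8
    · exfalso
      have hcop : ∀ p : ℕ, p.Prime → p ∣ 443520 → ¬ p ∣ Nat.card (stabilizer A ((x : Q) : Q ⧸ A)) →
          p ∣ Nat.card (orbit A ((x : Q) : Q ⧸ A)) := by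
        intro p hp hd hn
        rw [← h3] at hd
        exact (hp.dvd_mul.1 hd).resolve_right hn
      have a5 := hcop 5 (by norm_num) (by norm_num) h5
      have a7 := hcop 7 (by norm_num) (by norm_num) h7
      have a11 := hcop 11 (by norm_num) (by norm_num) h11'
      have a35 : 5 * 7 ∣ Nat.card (orbit A ((x : Q) : Q ⧸ A)) := Nat.Coprime.mul_dvd_of_dvd_of_dvd (by norm_num) a5 a7
      have a385 : 5 * 7 * 11 ∣ Nat.card (orbit A ((x : Q) : Q ⧸ A)) :=
        Nat.Coprime.mul_dvd_of_dvd_of_dvd (by norm_num) a35 a11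
      have hpos : 0 < Nat.card (orbit A ((x : Q) : Q ⧸ A)) := by
        rcases Nat.eq_zero_or_pos (Nat.card (orbit A ((x : Q) : Q ⧸ A))) with h0 | h0
        · rw [h0] at h3; omega
        · exact h0
      have := Nat.le_of_dvd hpos a385
      omega
  · obtain ⟨n, hn, hnx, hno⟩ := hBM g hg hg2
    exact ⟨n, hn, hnx, Or.inr (hno.trans ho)⟩
  · obtain ⟨n, hn, hnx, hno⟩ := hBM g hg hg2
    exact ⟨n, hn, hnx, Or.inl (hno.trans ho)⟩

end

end Cfsg.Agent.H395.EPM
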