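import Cfsg.Agent.H395.EPM.Count

/-!
# S3499: no extremely primitive group with socle of order 9196830720 and point stabiliser with socle `M22`
-/

set_option autoImplicit false
set_option linter.constructorNameAsVariable false

open scoped Pointwise

namespace Cfsg.Agent.H395.EPM

open Cfsg MulAction Cfsg.Agent.H284

section

variable {Q : Type*} [Group Q] [Finite Q] {A : Subgroup Q} {Γ : Subgroup (MulAut Q)}

/-- an element of order `p` fixing `c` : some translate of `c` by `A` is fixed by `P` -/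
theorem exists_translate {p : ℕ} (hp : p.Prime) (hpA : ¬ p ^ 2 ∣ Nat.card A) {P : Subgroup Q} (hP : Nat.card P = p)
    (hPA : P ≤ A) {x n : Q} (hn : n ∈ A) (hnx : x⁻¹ * n * x ∈ A) (hno : orderOf n = p) :
    ∃ a : A, a • ((x : Q) : Q ⧸ A) ∈ Fx A P := by
  have h1 : Nat.card (P.subgroupOf A) = p := by
    rw [Nat.card_congr (Subgroup.subgroupOfEquivOfLe hPA).toEquiv, hP]
  have hzA : Subgroup.zpowers n ≤ A := by rw [Subgroup.zpowers_le]; exact hn
  have h2 : Nat.card ((Subgroup.zpowers n).subgroupOf A) = p := by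
    rw [Nat.card_congr (Subgroup.subgroupOfEquivOfLe hzA).toEquiv, Nat.card_zpowers, hno]
  obtain ⟨a, ha⟩ := exists_conj_of_card hp hpA h2 h1
  refine ⟨a, ?_⟩
  change ((a : Q) • ((x : Q) : Q ⧸ A)) ∈ Fx A P
  rw [MulAction.Quotient.smul_coe, smul_eq_mul, mem_Fx]
  intro g hg
  have h3 := (ha ⟨g, hPA hg⟩).1 (by rw [Subgroup.mem_subgroupOf]; exact hg)
  rw [Subgroup.mem_subgroupOf] at h3
  obtain ⟨k, hk⟩ := Subgroup.mem_zpowers_iff.1 h3
  have h4 : ((a : Q) * x)⁻¹ * g * ((a : Q) * x) = x⁻¹ * ((a : Q)⁻¹ * g * a) * x := by group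
  have h5 : (a : Q)⁻¹ * g * a = n ^ k := by
    rw [hk]
    rfl
  rw [h4, h5]
  have h6 : x⁻¹ * n ^ k * x = (x⁻¹ * n * x) ^ k := by
    have := (conj_zpow (a := x⁻¹) (b := n) (i := k)).symm
    simpa using this
  rw [h6]
  exact zpow_mem hnx k

theorem exists_sub {p : ℕ} (hp : p.Prime) (hd : p ∣ Nat.card A) : ∃ P : Subgroup Q, Nat.card P = p ∧ P ≤ A := by
  have : Fact p.Prime := ⟨hp⟩
  obtain ⟨y, hy⟩ := exists_prime_orderOf_dvd_card' (G := A) p hd
  refine ⟨Subgroup.zpowers (y : Q), by rw [Nat.card_zpowers, Subgroup.orderOf_coe, hy], ?_⟩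
  rw [Subgroup.zpowers_le]
  exact y.2

theorem false_of_eq (h : EPT A Γ) (hQ : Nrm Q) (e : Spor.IsoM22 A) : False := by
  classical
  have hA : Nat.card A = 443520 := card_22 e
  obtain ⟨P5, h5, h5A⟩ := exists_sub (A := A) (p := 5) (by norm_num) (by rw [hA]; norm_num)
  obtain ⟨P7, h7, h7A⟩ := exists_sub (A := A) (p := 7) (by norm_num) (by rw [hA]; norm_num)
  have f5 := fx5 hQ hA h5 h5A
  have f7 := fx7 hQ hA h7 h7A
  have : Fintype (Q ⧸ A) := Fintype.ofFinite _
  let b : Q ⧸ A := ((1 : Q) : Q ⧸ A)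
  let F : Finset (Q ⧸ A) := ((Fx A P5).toFinset.erase b) ∪ ((Fx A P7).toFinset.erase b)
  have hF : F.card ≤ 6 := by
    have e5 : ((Fx A P5).toFinset.erase b).card = (Fx A P5).ncard - 1 := by
      rw [Finset.card_erase_of_mem (by rw [Set.mem_toFinset]; exact base_mem h5A), Set.ncard_eq_toFinset_card']
    have e7 : ((Fx A P7).toFinset.erase b).card = (Fx A P7).ncard - 1 := by
      rw [Finset.card_erase_of_mem (by rw [Set.mem_toFinset]; exact base_mem h7A), Set.ncard_eq_toFinset_card']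
    have := Finset.card_union_le ((Fx A P5).toFinset.erase b) ((Fx A P7).toFinset.erase b)
    change (_ ∪ _ : Finset _).card ≤ 6
    omega
  have hcov : (Finset.univ.erase b) ⊆ F.biUnion (fun c => (orbit A c).toFinset) := by
    intro c hc
    obtain ⟨x, rfl⟩ := QuotientGroup.mk_surjective c
    have hx : x ∉ A := by
      intro hx
      apply (Finset.mem_erase.1 hc).1
      exact QuotientGroup.eq.2 (by simpa using inv_mem hx)
    obtain ⟨⟨n, hn, hnx, hno⟩, -⟩ := local_main h hQ e hx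
    have key : ∃ a : A, a • ((x : Q) : Q ⧸ A) ∈ F := by
      have hb : ∀ a : A, a • ((x : Q) : Q ⧸ A) ≠ b := by
        intro a ha
        have h1 : ((x : Q) : Q ⧸ A) = a⁻¹ • b := by rw [← ha, inv_smul_smul]
        have h2 : a⁻¹ • b = b := by
          change ((a⁻¹ : A) : Q) • ((1 : Q) : Q ⧸ A) = _
          rw [smul_eq_iff, inv_one, one_mul, mul_one]
          exact (a⁻¹).2
        rw [h2] at h1
        apply hx
        have h3 := QuotientGroup.eq.1 h1
        rw [mul_one] at h3
        simpa using inv_mem h3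
      rcases hno with hno | hno
      · obtain ⟨a, ha⟩ := exists_translate (A := A) (by norm_num) (by rw [hA]; norm_num) h5 h5A hn hnx hno
        exact ⟨a, Finset.mem_union_left _ (Finset.mem_erase.2 ⟨hb a, by rw [Set.mem_toFinset]; exact ha⟩)⟩
      · obtain ⟨a, ha⟩ := exists_translate (A := A) (by norm_num) (by rw [hA]; norm_num) h7 h7A hn hnx hno
        exact ⟨a, Finset.mem_union_right _ (Finset.mem_erase.2 ⟨hb a, by rw [Set.mem_toFinset]; exact ha⟩)⟩
    obtain ⟨a, ha⟩ := key
    rw [Finset.mem_biUnion]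
    refine ⟨_, ha, ?_⟩
    rw [Set.mem_toFinset]
    exact ⟨a⁻¹, inv_smul_smul a _⟩
  have hle : ∀ c ∈ F, ((orbit A c).toFinset).card ≤ 2576 := by
    intro c hc
    obtain ⟨x, rfl⟩ := QuotientGroup.mk_surjective c
    have hx : x ∉ A := by
      intro hx
      have h1 : ((x : Q) : Q ⧸ A) = b := QuotientGroup.eq.2 (by simpa using inv_mem hx)
      rcases Finset.mem_union.1 hc with h2 | h2
      · exact (Finset.mem_erase.1 h2).1 h1
      · exact (Finset.mem_erase.1 h2).1 h1
    have h1 := (local_main h hQ e hx).2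
    rw [Set.toFinset_card, ← Nat.card_eq_fintype_card]
    exact h1
  have h1 := Finset.card_le_card hcov
  have h2 := Finset.card_biUnion_le_card_mul F (fun c => (orbit A c).toFinset) 2576 hle
  have h3 : (Finset.univ.erase b).card = 20735 := by
    rw [Finset.card_erase_of_mem (Finset.mem_univ b), Finset.card_univ, ← Nat.card_eq_fintype_card]
    have h4 : Nat.card (Q ⧸ A) = A.index := rfl
    rw [h4, index_eq hQ hA]
  have h5 : F.card * 2576 ≤ 6 * 2576 := Nat.mul_le_mul_right _ hF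
  omega

/-- **S3499-IV-L, `M22` in the group of order 9196830720** -/
theorem false_of_nrm (h : EPT A Γ) (hQ : Nrm Q) {N : Subgroup Q} (hNA : N ≤ A)
    (hN : ∀ a ∈ A, ∀ n ∈ N, a * n * a⁻¹ ∈ N) (e : Spor.IsoM22 N)
    (hC : ∀ a ∈ A, (∀ n ∈ N, a * n = n * a) → a = 1) : False := by
  rcases card_A hNA hN e hC with h1 | h1
  · have h2 : N = A := by
      apply Subgroup.eq_of_le_of_card_ge hNA
      rw [h1, card_22 e]
    subst h2
    exact false_of_eq h hQ e
  · exact not_two hQ h1

end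

end Cfsg.Agent.H395.EPM
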