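import Cfsg.Agent.H867.Max.Oct
import Cfsg.Agent.SporadicA.GolayBase
import Cfsg.Agent.S0358
import Cfsg.Agent.S0361
import Cfsg.Agent.S0360

/-!
# Every set of points is a code word plus at most three points or a tetrad through a given point
-/

set_option autoImplicit false
set_option linter.constructorNameAsVariable false

open scoped Pointwise

namespace Cfsg.Agent.H395.EPM

open Cfsg Cfsg.Agent.SporadicA.GolayBase Cfsg.Agent.H867.Max.Oct

/-- the code as a family of sets -/
abbrev Cd : Set (Finset GolayPt) := supports (golayCode : Set (GolayPt → ZMod 2))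

theorem card_Cd : Cd.ncard = 4096 := by
  have h1 : Cd = support₂ '' (golayCode : Set (GolayPt → ZMod 2)) := rfl
  rw [h1, Set.ncard_image_of_injective]
  · have h2 : Nat.card golayCode = 4096 := by
      rw [Module.natCard_eq_pow_finrank (K := ZMod 2) (V := golayCode), S0358.result, Nat.card_eq_fintype_card,
        ZMod.card]
      norm_num
    exact h2
  · intro v w h
    funext p
    have h2 : (p ∈ support₂ v) ↔ (p ∈ support₂ w) := by rw [h]
    simp only [support₂, Finset.mem_filter, Finset.mem_univ, true_and] at h2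
    generalize v p = a at h2 ⊢
    generalize w p = b at h2 ⊢
    revert a b
    decide

/-- sets of at most three points, or four points containing `a` -/
def Sm (a : GolayPt) : Finset (Finset GolayPt) :=
  (Finset.range 4).biUnion (fun k => Finset.powersetCard k Finset.univ) ∪
    (Finset.powersetCard 3 (Finset.univ.erase a)).image (insert a)

theorem mem_Sm {a : GolayPt} {e : Finset GolayPt} (h : e ∈ Sm a) : e.card ≤ 3 ∨ (e.card = 4 ∧ a ∈ e) := by
  rw [Sm, Finset.mem_union, Finset.mem_biUnion, Finset.mem_image] at h
  rcases h with ⟨k, hk, h⟩ | ⟨s, hs, rfl⟩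
  · left
    rw [Finset.mem_powersetCard] at h
    rw [Finset.mem_range] at hk
    omega
  · right
    rw [Finset.mem_powersetCard] at hs
    have ha : a ∉ s := fun ha => (Finset.mem_erase.1 (hs.1 ha)).1 rfl
    exact ⟨by rw [Finset.card_insert_of_notMem ha, hs.2], Finset.mem_insert_self a s⟩

theorem card_Sm (a : GolayPt) : (Sm a).card = 4096 := by
  have h24 : Fintype.card GolayPt = 24 := by decide
  rw [Sm, Finset.card_union_of_disjoint, Finset.card_biUnion, Finset.card_image_of_injOn]
  · simp only [Finset.card_powersetCard, Finset.card_univ, Finset.card_erase_of_mem (Finset.mem_univ a), h24]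
    decide
  · intro s hs t ht hst
    rw [Finset.mem_coe, Finset.mem_powersetCard] at hs ht
    have has : a ∉ s := fun ha => (Finset.mem_erase.1 (hs.1 ha)).1 rfl
    have hat : a ∉ t := fun ha => (Finset.mem_erase.1 (ht.1 ha)).1 rfl
    have h1 : (insert a s).erase a = (insert a t).erase a := congrArg (fun x : Finset GolayPt => x.erase a) hst
    rwa [Finset.erase_insert has, Finset.erase_insert hat] at h1
  · intro i _ k _ hik
    exact Finset.pairwise_disjoint_powersetCard _ hik
  · rw [Finset.disjoint_left]
    intro e he he'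
    rw [Finset.mem_biUnion] at he
    obtain ⟨k, hk, he⟩ := he
    rw [Finset.mem_powersetCard] at he
    rw [Finset.mem_range] at hk
    rw [Finset.mem_image] at he'
    obtain ⟨s, hs, rfl⟩ := he'
    rw [Finset.mem_powersetCard] at hs
    have ha : a ∉ s := fun ha => (Finset.mem_erase.1 (hs.1 ha)).1 rfl
    have := Finset.card_insert_of_notMem ha
    omega

theorem symmDiff_cancel (x y z : Finset GolayPt) : symmDiff (symmDiff x y) (symmDiff x z) = symmDiff y z := by
  rw [symmDiff_comm x y, symmDiff_assoc, symmDiff_symmDiff_cancel_left]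

/-- two small sets in the same class are equal -/
theorem eq_of_small {e e' : Finset GolayPt} (h : symmDiff e e' ∈ Cd) (hlt : e.card + e'.card < 8 + 2 * (e ∩ e').card) :
    e = e' := by
  have h1 := card_symmDiff_add e e'
  have h0 : (symmDiff e e').card = 0 := by
    rcases card_of_mem_supports h with h2 | h2 | h2 | h2 | h2 <;> omega
  rw [Finset.card_eq_zero] at h0
  exact symmDiff_eq_bot.1 h0

/-- **covering** -/
theorem covering (a : GolayPt) (D : Finset GolayPt) :
    ∃ e : Finset GolayPt, (e.card ≤ 3 ∨ (e.card = 4 ∧ a ∈ e)) ∧ symmDiff D e ∈ Cd := by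
  classical
  have hfin : Cd.Finite := Set.toFinite _
  let C : Finset (Finset GolayPt) := hfin.toFinset
  have hC : C.card = 4096 := by
    rw [← card_Cd, Set.ncard_eq_toFinset_card _ hfin]
  have hmem : ∀ c, c ∈ C ↔ c ∈ Cd := fun c => hfin.mem_toFinset
  have hinj : Set.InjOn (fun x : Finset GolayPt × Finset GolayPt => symmDiff x.1 x.2) (Sm a ×ˢ C : Finset _) := by
    rintro ⟨e, c⟩ h ⟨e', c'⟩ h' heq
    rw [Finset.mem_coe, Finset.mem_product] at h h'
    have heq' : symmDiff e c = symmDiff e' c' := heq
    have h1 : symmDiff e e' = symmDiff c c' := by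
      have h2 : symmDiff (symmDiff e c) (symmDiff e' c') = ∅ := by rw [heq']; exact symmDiff_self _
      have h3 : symmDiff (symmDiff e e') (symmDiff c c') = ∅ := by
        rw [← h2]
        rw [symmDiff_symmDiff_symmDiff_comm]
      exact symmDiff_eq_bot.1 h3
    have h4 : symmDiff e e' ∈ Cd := by
      rw [h1]
      exact symmDiff_mem_supports ((hmem c).1 h.2) ((hmem c').1 h'.2)
    have h5 : e = e' := by
      apply eq_of_small h4
      have m1 : e.card ≤ 3 ∨ (e.card = 4 ∧ a ∈ e) := mem_Sm h.1
      have m2 : e'.card ≤ 3 ∨ (e'.card = 4 ∧ a ∈ e') := mem_Sm h'.1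
      rcases m1 with h6 | h6 <;> rcases m2 with h7 | h7
      · omega
      · omega
      · omega
      · have h8 : 0 < (e ∩ e').card := Finset.card_pos.2 ⟨a, Finset.mem_inter.2 ⟨h6.2, h7.2⟩⟩
        omega
    subst h5
    have h6 : c = c' := by
      have h7 : symmDiff e (symmDiff e c) = symmDiff e (symmDiff e c') := by rw [heq']
      rwa [symmDiff_symmDiff_cancel_left, symmDiff_symmDiff_cancel_left] at h7
    rw [h6]
  have hcard : ((Sm a ×ˢ C).image (fun x : Finset GolayPt × Finset GolayPt => symmDiff x.1 x.2)).card =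
      Fintype.card (Finset GolayPt) := by
    rw [Finset.card_image_of_injOn hinj, Finset.card_product, card_Sm, hC, Fintype.card_finset]
    have h24 : Fintype.card GolayPt = 24 := by decide
    rw [h24]
    norm_num
  have h1 : (Sm a ×ˢ C).image (fun x : Finset GolayPt × Finset GolayPt => symmDiff x.1 x.2) = Finset.univ :=
    Finset.eq_univ_of_card _ hcard
  have h2 : D ∈ (Sm a ×ˢ C).image (fun x : Finset GolayPt × Finset GolayPt => symmDiff x.1 x.2) := by
    rw [h1]; exact Finset.mem_univ D
  rw [Finset.mem_image] at h2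
  obtain ⟨⟨e, c⟩, h3, h4⟩ := h2
  rw [Finset.mem_product] at h3
  refine ⟨e, mem_Sm h3.1, ?_⟩
  have h5 : symmDiff D e = c := by
    rw [← h4]
    change symmDiff (symmDiff e c) e = c
    rw [symmDiff_comm, symmDiff_symmDiff_cancel_left]
  rw [h5]
  exact (hmem c).1 h3.2

end Cfsg.Agent.H395.EPM
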