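import Cfsg.Agent.H395.EPM.Golay
import Cfsg.Agent.J4Type.Aut22

/-!
# The subsets of the 22 points: canonical structures
-/

set_option autoImplicit false
set_option linter.constructorNameAsVariable false

open scoped Pointwise

namespace Cfsg.Agent.H395.EPM

open Cfsg Cfsg.Agent.SporadicA.GolayBase Cfsg.Agent.H867.Max.Oct
open Cfsg.Agent.J4Type.Aut22 (D22 mem_D22_iff M22_le_D22)

/-- the base duad -/
def dd : Finset GolayPt := {none, some 0}

theorem smul_dd {g : Equiv.Perm GolayPt} (hg : g ∈ D22) : g • dd = dd :=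
  MulAction.mem_stabilizer_iff.1 (Subgroup.mem_inf.1 hg).2

theorem mem24 {g : Equiv.Perm GolayPt} (hg : g ∈ D22) : g ∈ M24 := (Subgroup.mem_inf.1 hg).1

theorem smul_Cd {g : Equiv.Perm GolayPt} (hg : g ∈ M24) {s : Finset GolayPt} (hs : s ∈ Cd) : g • s ∈ Cd := by
  have h : g • Cd = Cd := MulAction.mem_stabilizer_iff.1 hg
  rw [← h]
  exact Set.smul_mem_smul_set hs

theorem eq_of_codes {D e e' : Finset GolayPt} (h : symmDiff D e ∈ Cd) (h' : symmDiff D e' ∈ Cd)
    (hlt : e.card + e'.card < 8 + 2 * (e ∩ e').card) : e = e' := by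
  apply eq_of_small _ hlt
  rw [← symmDiff_cancel D e e']
  exact symmDiff_mem_supports h h'

theorem code_smul {g : Equiv.Perm GolayPt} (hg : g ∈ D22) {D e : Finset GolayPt} (hD : g • D = D)
    (h : symmDiff D e ∈ Cd) : symmDiff D (g • e) ∈ Cd := by
  have h1 := smul_Cd (mem24 hg) h
  rwa [Finset.smul_finset_symmDiff, hD] at h1

/-- the kinds of structures -/
def Kind (D s : Finset GolayPt) : Prop :=
  (s.card = 1 ∧ none ∉ s ∧ some 0 ∉ s) ∨ (s.card = 2 ∧ none ∉ s ∧ some 0 ∉ s) ∨
  (s ∈ octads ∧ none ∈ s ∧ some 0 ∈ s) ∨ (D.card = 7 ∧ s ∈ octads) ∨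
  (s ∈ octads ∧ none ∉ s ∧ some 0 ∉ s) ∨ (D.card = 10 ∧ s ∈ dodecads)

theorem exists_octad {t : Finset GolayPt} (ht : t.card = 3) (h0 : none ∉ t) (h1 : some 0 ∉ t) :
    ∃ o ∈ octads, none ∈ o ∧ some 0 ∈ o ∧ ∀ g ∈ D22, g • t = t → g • o = o := by
  have hd : Disjoint dd t := by
    rw [dd, Finset.disjoint_left]
    intro x hx
    rw [Finset.mem_insert, Finset.mem_singleton] at hx
    rcases hx with rfl | rfl
    · exact h0
    · exact h1
  have h5 : (dd ∪ t).card = 5 := by
    rw [Finset.card_union_of_disjoint hd, ht]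
    rfl
  obtain ⟨o, ⟨ho, hs⟩, hu⟩ := S0363.result.2 (dd ∪ t) h5
  refine ⟨o, ho, hs (Finset.mem_union_left _ (by simp [dd])), hs (Finset.mem_union_left _ (by simp [dd])), ?_⟩
  intro g hg hgt
  apply hu
  refine ⟨smul_octad (mem24 hg) ho, ?_⟩
  have h6 : g • (dd ∪ t) ⊆ g • o := Finset.smul_finset_subset_smul_finset hs
  rwa [Finset.smul_finset_union, smul_dd hg, hgt] at h6

theorem struct (D : Finset GolayPt) (h0 : none ∉ D) (h1 : some 0 ∉ D) (hne : D.Nonempty) (h10 : D.card ≤ 10) :
    ∃ s : Finset GolayPt, (∀ g ∈ D22, g • D = D → g • s = s) ∧ Kind D s := by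
  have hpos := hne.card_pos
  have key3 : ∀ e : Finset GolayPt, e.card ≤ 3 → symmDiff D e ∈ Cd →
      ∃ s : Finset GolayPt, (∀ g ∈ D22, g • D = D → g • s = s) ∧ Kind D s := by
    intro e he hc
    have hge : ∀ g ∈ D22, g • D = D → g • e = e := by
      intro g hg hD
      apply eq_of_codes (code_smul hg hD hc) hc
      rw [Finset.card_smul_finset]
      omega
    set t := e \ dd with ht
    have hgt : ∀ g ∈ D22, g • D = D → g • t = t := by
      intro g hg hD
      rw [ht, Finset.smul_finset_sdiff, hge g hg hD, smul_dd hg]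
    have hn : none ∉ t := by simp [ht, dd]
    have hz : some 0 ∉ t := by simp [ht, dd]
    have htc : t.card ≤ 3 := (Finset.card_le_card Finset.sdiff_subset).trans he
    have h3 : t.card = 0 ∨ t.card = 1 ∨ t.card = 2 ∨ t.card = 3 := by omega
    rcases h3 with h3 | h3 | h3 | h3
    · -- the code word
      have hsub : e ⊆ dd := by
        rw [Finset.card_eq_zero, ht, Finset.sdiff_eq_empty_iff_subset] at h3
        exact h3
      have hdis : D ∩ e = ∅ := by
        rw [← Finset.disjoint_iff_inter_eq_empty, Finset.disjoint_left]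
        intro x hx hxe
        have hxd := hsub hxe
        rw [dd, Finset.mem_insert, Finset.mem_singleton] at hxd
        rcases hxd with rfl | rfl
        · exact h0 hx
        · exact h1 hx
      have hcard := card_symmDiff_add D e
      rw [hdis, Finset.card_empty] at hcard
      have he2 : e.card ≤ 2 := (Finset.card_le_card hsub).trans (by decide)
      refine ⟨symmDiff D e, ?_, ?_⟩
      · intro g hg hD
        rw [Finset.smul_finset_symmDiff, hD, hge g hg hD]
      · have hmn : none ∈ symmDiff D e ↔ none ∈ e := by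
          rw [Finset.mem_symmDiff]; tauto
        have hmz : some 0 ∈ symmDiff D e ↔ some 0 ∈ e := by
          rw [Finset.mem_symmDiff]; tauto
        rcases card_of_mem_supports hc with h4 | h4 | h4 | h4 | h4
        · omega
        · have ho : symmDiff D e ∈ octads := ⟨hc, h4⟩
          by_cases hen : none ∈ e
          · by_cases hez : some 0 ∈ e
            · exact Or.inr (Or.inr (Or.inl ⟨ho, hmn.2 hen, hmz.2 hez⟩))
            · have h5 : e = {none} := by
                apply Finset.Subset.antisymm
                · intro x hx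
                  have hxd := hsub hx
                  rw [dd, Finset.mem_insert, Finset.mem_singleton] at hxd
                  rcases hxd with rfl | rfl
                  · exact Finset.mem_singleton_self _
                  · exact absurd hx hez
                · rw [Finset.singleton_subset_iff]; exact hen
              have h6 : e.card = 1 := by rw [h5]; rfl
              exact Or.inr (Or.inr (Or.inr (Or.inl ⟨by omega, ho⟩)))
          · by_cases hez : some 0 ∈ e
            · have h5 : e = {some 0} := by
                apply Finset.Subset.antisymm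
                · intro x hx
                  have hxd := hsub hx
                  rw [dd, Finset.mem_insert, Finset.mem_singleton] at hxd
                  rcases hxd with rfl | rfl
                  · exact absurd hx hen
                  · exact Finset.mem_singleton_self _
                · rw [Finset.singleton_subset_iff]; exact hez
              have h6 : e.card = 1 := by rw [h5]; rfl
              exact Or.inr (Or.inr (Or.inr (Or.inl ⟨by omega, ho⟩)))
            · exact Or.inr (Or.inr (Or.inr (Or.inr (Or.inl ⟨ho, fun h => hen (hmn.1 h), fun h => hez (hmz.1 h)⟩))))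
        · exact Or.inr (Or.inr (Or.inr (Or.inr (Or.inr ⟨by omega, hc, h4⟩))))
        · omega
        · omega
    · exact ⟨t, hgt, Or.inl ⟨h3, hn, hz⟩⟩
    · exact ⟨t, hgt, Or.inr (Or.inl ⟨h3, hn, hz⟩)⟩
    · obtain ⟨o, ho, ho1, ho2, ho3⟩ := exists_octad h3 hn hz
      exact ⟨o, fun g hg hD => ho3 g hg (hgt g hg hD), Or.inr (Or.inr (Or.inl ⟨ho, ho1, ho2⟩))⟩
  obtain ⟨e, he, hc⟩ := covering none D
  rcases he with he | ⟨he, hen⟩
  · exact key3 e he hc
  obtain ⟨e', he', hc'⟩ := covering (some 0) D
  rcases he' with he' | ⟨he', hez⟩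
  · exact key3 e' he' hc'
  have same : ∀ a b : Finset GolayPt, a.card = 4 → b.card = 4 → symmDiff D a ∈ Cd → symmDiff D b ∈ Cd →
      ∀ p, p ∈ a → p ∈ b → a = b := by
    intro a b ha hb hca hcb p hpa hpb
    apply eq_of_codes hca hcb
    have : 0 < (a ∩ b).card := Finset.card_pos.2 ⟨p, Finset.mem_inter.2 ⟨hpa, hpb⟩⟩
    omega
  have hmv : ∀ g ∈ D22, g • D = D → (g none = none ∧ g (some 0) = some 0 ∧ g • e = e ∧ g • e' = e') ∨
      (g • e = e' ∧ g • e' = e) := by
    intro g hg hD
    have hce := code_smul hg hD hc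
    have hce' := code_smul hg hD hc'
    have c1 : (g • e).card = 4 := by rw [Finset.card_smul_finset]; exact he
    have c2 : (g • e').card = 4 := by rw [Finset.card_smul_finset]; exact he'
    have m1 : g none ∈ g • e := Finset.smul_mem_smul_finset hen
    have m2 : g (some 0) ∈ g • e' := Finset.smul_mem_smul_finset hez
    rcases ((mem_D22_iff g).1 hg).2 with ⟨h3, h4⟩ | ⟨h3, h4⟩
    · rw [h3] at m1
      rw [h4] at m2
      exact Or.inl ⟨h3, h4, same _ _ c1 he hce hc none m1 hen, same _ _ c2 he' hce' hc' (some 0) m2 hez⟩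
    · rw [h3] at m1
      rw [h4] at m2
      exact Or.inr ⟨same _ _ c1 he' hce hc' (some 0) m1 hez, same _ _ c2 he hce' hc none m2 hen⟩
  by_cases heq : e = e'
  · subst heq
    refine ⟨e \ dd, ?_, Or.inr (Or.inl ⟨?_, by simp [dd], by simp [dd]⟩)⟩
    · intro g hg hD
      have h3 : g • e = e := by
        rcases hmv g hg hD with h | h
        · exact h.2.2.1
        · exact h.1
      rw [Finset.smul_finset_sdiff, h3, smul_dd hg]
    · have h3 : dd ⊆ e := by
        intro x hx
        rw [dd, Finset.mem_insert, Finset.mem_singleton] at hx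
        rcases hx with rfl | rfl
        · exact hen
        · exact hez
      rw [Finset.card_sdiff_of_subset h3, he]
      rfl
  · have hcc : symmDiff e e' ∈ Cd := by
      rw [← symmDiff_cancel D e e']
      exact symmDiff_mem_supports hc hc'
    have h3 := card_symmDiff_add e e'
    have h4 : (symmDiff e e').card ≠ 0 := by
      intro h
      rw [Finset.card_eq_zero] at h
      exact heq (symmDiff_eq_bot.1 h)
    have h5 : (symmDiff e e').card = 8 := by
      rcases card_of_mem_supports hcc with h | h | h | h | h <;> omega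
    have h6 : (e ∩ e').card = 0 := by omega
    have h7 : e ∩ e' = ∅ := Finset.card_eq_zero.1 h6
    have hn' : none ∉ e' := fun h => by
      have : (none : GolayPt) ∈ e ∩ e' := Finset.mem_inter.2 ⟨hen, h⟩
      rw [h7] at this
      simp at this
    have hz' : some 0 ∉ e := fun h => by
      have : (some 0 : GolayPt) ∈ e ∩ e' := Finset.mem_inter.2 ⟨h, hez⟩
      rw [h7] at this
      simp at this
    refine ⟨symmDiff e e', ?_, Or.inr (Or.inr (Or.inl ⟨⟨hcc, h5⟩, ?_, ?_⟩))⟩
    · intro g hg hD
      rw [Finset.smul_finset_symmDiff]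
      rcases hmv g hg hD with ⟨-, -, h8, h9⟩ | ⟨h8, h9⟩
      · rw [h8, h9]
      · rw [h8, h9, symmDiff_comm]
    · rw [Finset.mem_symmDiff]; exact Or.inl ⟨hen, hn'⟩
    · rw [Finset.mem_symmDiff]; exact Or.inr ⟨hez, hz'⟩

end Cfsg.Agent.H395.EPM
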