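import Cfsg.Agent.H395.EPM.Final
import Cfsg.Agent.H251.Der.SixFive

/-!
# S3499: `U₆(2) > M22`
-/

set_option autoImplicit false

namespace Cfsg.Agent.H395.EPM

open Cfsg Cfsg.Agent.H284 Cfsg.Agent.H396 Cfsg.Agent.OrdDiv Cfsg.Agent.H251.Small Cfsg.Agent.H251.Der

/-- transport of the normalizer data -/
theorem Nrm.congr {G H : Type*} [Group G] [Group H] (f : G ≃* H) (h : Nrm G) : Nrm H := by
  have key : ∀ P : Subgroup H, Nat.card (P.map f.symm.toMonoidHom) = Nat.card P ∧
      Nat.card (Subgroup.normalizer ((P.map f.symm.toMonoidHom : Subgroup G) : Set G)) =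
        Nat.card (Subgroup.normalizer (P : Set H)) := by
    intro P
    refine ⟨(Nat.card_congr (P.equivMapOfInjective f.symm.toMonoidHom f.symm.injective).toEquiv).symm, ?_⟩
    have h1 : Subgroup.normalizer ((P.map f.symm.toMonoidHom : Subgroup G) : Set G) =
        (Subgroup.normalizer (P : Set H)).map f.symm.toMonoidHom := by
      ext g
      rw [Subgroup.mem_normalizer_iff]
      constructor
      · intro hg
        refine ⟨f g, ?_, f.symm_apply_apply g⟩
        rw [SetLike.mem_coe, Subgroup.mem_normalizer_iff]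
        intro y
        have h2 := hg (f.symm y)
        have h3 : ∀ z : G, z ∈ P.map f.symm.toMonoidHom ↔ f z ∈ P := by
          intro z
          constructor
          · rintro ⟨w, hw, rfl⟩
            have : f (f.symm.toMonoidHom w) = w := f.apply_symm_apply w
            rw [this]; exact hw
          · intro hz
            exact ⟨f z, hz, f.symm_apply_apply z⟩
        rw [h3, h3, map_mul, map_mul, map_inv, MulEquiv.apply_symm_apply] at h2
        exact h2
      · rintro ⟨y, hy, rfl⟩
        rw [SetLike.mem_coe, Subgroup.mem_normalizer_iff] at hy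
        intro z
        constructor
        · rintro ⟨w, hw, rfl⟩
          exact ⟨y * w * y⁻¹, (hy w).1 hw, by simp⟩
        · rintro ⟨w, hw, hz⟩
          refine ⟨y⁻¹ * w * y, ?_, ?_⟩
          · rw [SetLike.mem_coe]
            rw [hy]
            have : y * (y⁻¹ * w * y) * y⁻¹ = w := by group
            rw [this]
            exact hw
          · have h5 : z = (f.symm.toMonoidHom y)⁻¹ * (f.symm.toMonoidHom w) * f.symm.toMonoidHom y := by
              rw [hz]; group
            rw [h5, map_mul, map_mul, map_inv]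
    rw [h1]
    exact (Nat.card_congr ((Subgroup.normalizer (P : Set H)).equivMapOfInjective f.symm.toMonoidHom
      f.symm.injective).toEquiv).symm
  refine ⟨(Nat.card_congr f.toEquiv).symm.trans h.card, ?_, ?_, ?_⟩
  · intro P hP
    have h1 := h.n5 (P.map f.symm.toMonoidHom) ((key P).1.trans hP)
    rwa [(key P).2] at h1
  · intro P hP
    have h1 := h.n7 (P.map f.symm.toMonoidHom) ((key P).1.trans hP)
    rwa [(key P).2] at h1
  · intro P hP
    have h1 := h.n11 (P.map f.symm.toMonoidHom) ((key P).1.trans hP)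
    rwa [(key P).2] at h1

theorem nrm_u6 (OT : OrderTable.{0})
    (hS : ∀ (X : Type) [Group X] [Finite X] [IsSimpleGroup X], Cfsg.IsKnownSimple' X)
    {F : Type} [Field F] [Fintype F] (hF : Fintype.card F = 2 ^ 2) : Nrm (PSU 6 F 2) := by
  have D := data_u6 OT hS hF
  have D5 := data_five6 OT hS hF
  refine ⟨card_u6 hF, ?_, ?_, ?_⟩
  · intro P hP
    exact (D5.cent (5, 6, 24) (by simp) P hP).2
  · intro P hP
    exact (D.cent (7, 1, 6) (by simp) P hP).2
  · intro P hP
    exact (D.cent (11, 1, 5) (by simp) P hP).2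

/-- **S3499-IV-L, `U₆(2) > M22`** -/
theorem u62_m22 (OT : OrderTable.{0})
    (hS : ∀ (X : Type) [Group X] [Finite X] [IsSimpleGroup X], Cfsg.IsKnownSimple' X)
    {Q : Type*} [Group Q] [Finite Q] {A : Subgroup Q} {Γ : Subgroup (MulAut Q)} (h : EPT A Γ)
    {F : Type} [Field F] [Fintype F] (hF : Fintype.card F = 2 ^ 2) (f : Q ≃* PSU 6 F 2)
    {N : Subgroup Q} (hNA : N ≤ A) (hN : ∀ a ∈ A, ∀ n ∈ N, a * n * a⁻¹ ∈ N) (e : Spor.IsoM22 N)
    (hC : ∀ a ∈ A, (∀ n ∈ N, a * n = n * a) → a = 1) : False :=
  false_of_nrm h ((nrm_u6 OT hS hF).congr f.symm) hNA hN e hC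

end Cfsg.Agent.H395.EPM
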